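import Groth.Agent.CplFib6.DerivTower
import Mathlib.RingTheory.Localization.FractionRing
import Mathlib.RingTheory.Localization.LocalizationLocalization
import Mathlib.Algebra.Polynomial.Derivation

/-! # Derivations of the coordinate ring of the line -/

universe u

open Polynomial

attribute [local instance 10000] Ring.toIntAlgebra

namespace Groth.Agent.H44REq

variable {k : Type u} [Field k]

/-- An absolute derivation killing the ground field. -/
noncomputable def toK {B : Type u} [CommRing B] [Algebra k B] (D : Derivation ℤ B B)
    (h : ∀ c, D (algebraMap k B c) = 0) : Derivation k B B :=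
  Derivation.mk'
    { toFun := fun b => D b
      map_add' := map_add D
      map_smul' := fun c b => by
        simp only [Algebra.smul_def, RingHom.id_apply, Derivation.leibniz, h, mul_zero, add_zero, Algebra.algebraMap_self] }
    fun a b => D.leibniz a b

theorem toK_apply {B : Type u} [CommRing B] [Algebra k B] (D : Derivation ℤ B B)
    (h : ∀ c, D (algebraMap k B c) = 0) (b : B) : toK D h b = D b := rfl

/-- Derivations over the ground field extend to localizations. -/
theorem exists_ext_loc {T : Type u} [CommRing T] [Algebra k T] (M : Submonoid T) (S : Type u) [CommRing S]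
    [Algebra T S] [IsLocalization M S] [Algebra k S] [IsScalarTower k T S] (D : Derivation k T T) :
    ∃ D' : Derivation k S S, ∀ a, D' (algebraMap T S a) = algebraMap T S (D a) := by
  let D0 : Derivation ℤ T T := Derivation.mk' D.toLinearMap.toAddMonoidHom.toIntLinearMap fun a b => D.leibniz a b
  obtain ⟨D', hD'⟩ := CplFib6.exists_derivation_localization (S := S) M D0
  refine ⟨toK D' fun c => ?_, hD'⟩
  rw [IsScalarTower.algebraMap_apply k T S, hD']
  show algebraMap T S (D (algebraMap k T c)) = 0
  rw [Derivation.map_algebraMap, map_zero]

variable {K : Type u} [Field K] [Algebra k K]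

/-- Derivations extend to polynomials with any value at the variable. -/
theorem exists_ext_poly (D : Derivation k K K) (q : K[X]) :
    ∃ D' : Derivation k K[X] K[X], (∀ a, D' (C a) = C (D a)) ∧ D' X = q := by
  let D0 : Derivation ℤ K K := Derivation.mk' D.toLinearMap.toAddMonoidHom.toIntLinearMap fun a b => D.leibniz a b
  obtain ⟨D₁, hX, hC⟩ := CplFib6.exists_derivation_polynomial D0
  let D₂ : Derivation ℤ K[X] K[X] := Derivation.mk' (D₁.toLinearMap.toAddMonoidHom +
      (AddMonoidHom.mulLeft q).comp (Polynomial.derivative (R := K)).toAddMonoidHom).toIntLinearMap fun a b => by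
    show D₁ (a * b) + q * derivative (a * b) = a * (D₁ b + q * derivative b) + b * (D₁ a + q * derivative a)
    rw [D₁.leibniz, derivative_mul, smul_eq_mul, smul_eq_mul]
    ring
  have h2C : ∀ a, D₂ (C a) = C (D a) := fun a => by
    show D₁ (C a) + q * derivative (C a) = C (D a)
    rw [hC, derivative_C, mul_zero, add_zero]
    rfl
  refine ⟨toK D₂ fun c => ?_, h2C, ?_⟩
  · rw [IsScalarTower.algebraMap_apply k K K[X]]
    show D₂ (C _) = 0
    rw [h2C, Derivation.map_algebraMap, map_zero]
  · show D₁ X + q * derivative X = q
    rw [hX, derivative_X, mul_one, zero_add]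

/-- Compatibility of derivations along a map out of a polynomial ring. -/
theorem compat_poly {S : Type u} [CommRing S] [Algebra k S] (ψ : K[X] →+* S) (D' : Derivation k K[X] K[X])
    (DS : Derivation k S S) (hC : ∀ a, DS (ψ (C a)) = ψ (D' (C a))) (hX : DS (ψ X) = ψ (D' X)) (p : K[X]) :
    DS (ψ p) = ψ (D' p) := by
  induction p using Polynomial.induction_on with
  | C a => exact hC a
  | add p q hp hq => simp only [map_add, hp, hq]
  | monomial n a ih =>
    simp only [pow_succ, ← mul_assoc, map_mul, Derivation.leibniz, smul_eq_mul, map_add] at ih ⊢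
    rw [ih, hX]

/-- Compatibility of derivations extends to localizations. -/
theorem compat_loc {T : Type u} [CommRing T] (M : Submonoid T) {S : Type u} [CommRing S] [Algebra T S]
    [IsLocalization M S] [Algebra k S] {S' : Type u} [CommRing S'] [Algebra k S'] (ψ : S →+* S')
    (D : Derivation k S S) (D' : Derivation k S' S')
    (h : ∀ t, D' (ψ (algebraMap T S t)) = ψ (D (algebraMap T S t))) (x : S) : D' (ψ x) = ψ (D x) := by
  obtain ⟨⟨t, m⟩, hx⟩ := IsLocalization.surj M x
  have e1 := congrArg (fun z => D' (ψ z)) hx
  have e2 := congrArg (fun z => ψ (D z)) hx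
  simp only [map_mul, Derivation.leibniz, smul_eq_mul, map_add, h] at e1 e2
  refine ((IsLocalization.map_units S m).map ψ).mul_left_cancel ?_
  linear_combination e1 - e2

end Groth.Agent.H44REq
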