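import Groth.Prelude.Def_W4c5nonratstablectREq
import Groth.Prelude.Def_ExtPow2
import Groth.Agent.H44LogNCD.Frame
import Groth.Agent.H44Hyper.QCohExt
import Groth.Agent.OmegaUniv.Unram
import Groth.Agent.OmegaUniv.Universal
import Groth.Agent.QCoh.TensorSections
import Groth.Agent.QCoh.VanIdeal
import Mathlib.LinearAlgebra.Matrix.Determinant.Basic

/-! # Evaluating tensor forms on points and derivations -/

universe u

open CategoryTheory CategoryTheory.Limits AlgebraicGeometry TopologicalSpace Opposite TensorProduct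

set_option linter.style.haveILetI false
set_option backward.isDefEq.respectTransparency false
set_option backward.isDefEq.respectTransparency.types false

namespace Groth.Agent.H44REq

open Groth.Agent.AModX

variable {k : Type u} [Field k] {X : Scheme.{u}} (f : X ⟶ Spec (CommRingCat.of k))

/-- The structure map of the sections. -/
noncomputable def kX (U : X.Opens) : k →+* Γ(X, U) :=
  (f.appLE ⊤ U le_top).hom.comp (Scheme.ΓSpecIso (CommRingCat.of k)).inv.hom

theorem kX_res {U V : X.Opens} (h : V ≤ U) : (resR h).comp (kX f U) = kX f V := by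
  refine RingHom.ext fun c => ?_
  show (f.appLE ⊤ U le_top ≫ X.presheaf.map (homOfLE h).op) _ = _
  rw [Scheme.Hom.appLE_map]
  rfl

variable {U V : X.Opens} {A A' : Type u} [CommRing A] [Algebra k A] [CommRing A'] [Algebra k A']
  (φ : Γ(X, U) →+* A)

/-- The evaluation is over the ground field. -/
def OverK : Prop := φ.comp (kX f U) = algebraMap k A

/-- Semilinear functionals on sections. -/
def SL (M : X.Modules) : Type u :=
  {e : Γ(M, U) →+ A // ∀ (b : Γ(X, U)) (z : Γ(M, U)), e (b • z) = φ b * e z}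

variable [QuasiSeparated f]

variable (hU : IsAffineOpen U) (hφ : OverK f φ)

include hU hφ in
theorem exists_lin (D : Derivation k A A) :
    ∃ l : SL φ (Omega.sheaf f), ∀ b, l.1 ((OmegaSh.dOmega f).app U b) = D (φ b) := by
  let alg := (f.appLE ⊤ U le_top).hom.toAlgebra
  obtain ⟨E, hE⟩ := H44LogNCD.exists_omega_equiv (OmegaUniv.isUniversal_dOmega f) hU
    (isAffineOpen_top (Spec (CommRingCat.of k))) le_top
  letI algA : Algebra Γ(X, U) A := φ.toAlgebra
  letI algB : Algebra Γ(Spec (CommRingCat.of k), ⊤) A := (φ.comp (f.appLE ⊤ U le_top).hom).toAlgebra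
  haveI : IsScalarTower Γ(Spec (CommRingCat.of k), ⊤) Γ(X, U) A := IsScalarTower.of_algebraMap_eq fun _ => rfl
  have hc : ∀ c : Γ(Spec (CommRingCat.of k), ⊤), φ ((f.appLE ⊤ U le_top) c) =
      algebraMap k A ((Scheme.ΓSpecIso (CommRingCat.of k)).hom c) := fun c => by
    rw [← hφ]
    show _ = φ ((f.appLE ⊤ U le_top) ((Scheme.ΓSpecIso (CommRingCat.of k)).inv ((Scheme.ΓSpecIso (CommRingCat.of k)).hom c)))
    rw [← ConcreteCategory.comp_apply (Scheme.ΓSpecIso (CommRingCat.of k)).hom, Iso.hom_inv_id]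
    rfl
  let D₀ : Derivation Γ(Spec (CommRingCat.of k), ⊤) Γ(X, U) A :=
    Derivation.mk'
      { toFun := fun b => D (φ b)
        map_add' := fun a b => by rw [map_add, map_add]
        map_smul' := fun c b => by
          show D (φ (f.appLE ⊤ U le_top c * b)) = φ (f.appLE ⊤ U le_top c) * D (φ b)
          rw [map_mul, hc, Derivation.leibniz, Derivation.map_algebraMap, smul_zero, add_zero, smul_eq_mul] }
      fun a b => by
        show D (φ (a * b)) = φ a * D (φ b) + φ b * D (φ a)
        rw [map_mul, Derivation.leibniz]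
        rfl
  refine ⟨⟨(D₀.liftKaehlerDifferential.toAddMonoidHom).comp E.toAddEquiv.toAddMonoidHom, fun b z => ?_⟩, fun b => ?_⟩
  · show D₀.liftKaehlerDifferential (E (b • z)) = φ b * D₀.liftKaehlerDifferential (E z)
    rw [map_smul, map_smul]
    rfl
  · show D₀.liftKaehlerDifferential (E ((OmegaSh.dOmega f).app U b)) = _
    rw [hE, Derivation.liftKaehlerDifferential_comp_D]
    rfl

include hU in
theorem omega_induction {P : Γ(Omega.sheaf f, U) → Prop} (h0 : P 0) (hadd : ∀ a b, P a → P b → P (a + b))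
    (hd : ∀ (c b : Γ(X, U)), P (c • (OmegaSh.dOmega f).app U b)) (z : Γ(Omega.sheaf f, U)) : P z := by
  let alg := (f.appLE ⊤ U le_top).hom.toAlgebra
  obtain ⟨E, hE⟩ := H44LogNCD.exists_omega_equiv (OmegaUniv.isUniversal_dOmega f) hU
    (isAffineOpen_top (Spec (CommRingCat.of k))) le_top
  have hz : E z ∈ Submodule.span Γ(X, U)
      (Set.range (KaehlerDifferential.D Γ(Spec (CommRingCat.of k), ⊤) Γ(X, U))) := by
    rw [KaehlerDifferential.span_range_derivation]; trivial
  obtain ⟨c, hc⟩ := (Finsupp.mem_span_range_iff_exists_finsupp).1 hz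
  have : z = ∑ a ∈ c.support, c a • (OmegaSh.dOmega f).app U a := by
    apply E.injective
    rw [← hc, map_sum, Finsupp.sum]
    exact Finset.sum_congr rfl fun a _ => by rw [map_smul, hE]
  rw [this]
  exact Finset.sum_induction _ P hadd h0 fun a _ => hd _ _

/-- The functional of a derivation. -/
noncomputable def lin (D : Derivation k A A) : SL φ (Omega.sheaf f) := (exists_lin f φ hU hφ D).choose

theorem lin_d (D : Derivation k A A) (b : Γ(X, U)) :
    (lin f φ hU hφ D).1 ((OmegaSh.dOmega f).app U b) = D (φ b) :=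
  (exists_lin f φ hU hφ D).choose_spec b

variable {i : ℕ} {L : X.Modules} (hL : ExtPow.IsExtPow i (Omega.sheaf f) L)

/-- The affine description of the exterior power. -/
noncomputable def eqv {U : X.Opens} (hU : IsAffineOpen U) :
    Γ(L, U) ≃ₗ[Γ(X, U)] ↥(⋀[Γ(X, U)]^i Γ(Omega.sheaf f, U)) :=
  hL.choose ⟨U, hU⟩

theorem eqv_res {U V : X.Opens} (hU : IsAffineOpen U) (hV : IsAffineOpen V) (h : V ≤ U)
    (e : Fin i → Γ(Omega.sheaf f, U)) :
    res L h ((eqv f hL hU).symm (exteriorPower.ιMulti _ i e)) =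
      (eqv f hL hV).symm (exteriorPower.ιMulti _ i fun j => res (Omega.sheaf f) h (e j)) :=
  hL.choose_spec ⟨U, hU⟩ ⟨V, hV⟩ h e

include hU hφ hL in
theorem exists_dv (D : Fin i → Derivation k A A) :
    ∃ e : SL φ L, ∀ v : Fin i → Γ(Omega.sheaf f, U), e.1 ((eqv f hL hU).symm (exteriorPower.ιMulti _ i v)) =
      (Matrix.of fun q p => (lin f φ hU hφ (D p)).1 (v q)).det := by
  letI algA : Algebra Γ(X, U) A := φ.toAlgebra
  let T : Γ(Omega.sheaf f, U) →ₗ[Γ(X, U)] (Fin i → A) :=
    { toFun := fun z p => (lin f φ hU hφ (D p)).1 z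
      map_add' := fun a b => funext fun p => map_add _ a b
      map_smul' := fun c z => funext fun p => (lin f φ hU hφ (D p)).2 c z }
  let α : Γ(Omega.sheaf f, U) [⋀^Fin i]→ₗ[Γ(X, U)] A :=
    { toMultilinearMap := ((Matrix.detRowAlternating (n := Fin i) (R := A)).toMultilinearMap.restrictScalars Γ(X, U)).compLinearMap
        fun _ => T
      map_eq_zero_of_eq' := fun v a b h hab =>
        (Matrix.detRowAlternating (n := Fin i) (R := A)).map_eq_zero_of_eq _ (congrArg T h) hab }
  refine ⟨⟨(exteriorPower.alternatingMapLinearEquiv α).toAddMonoidHom.comp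
    (eqv f hL hU).toAddEquiv.toAddMonoidHom, fun b z => ?_⟩, fun v => ?_⟩
  · show exteriorPower.alternatingMapLinearEquiv α (eqv f hL hU (b • z)) =
      φ b * exteriorPower.alternatingMapLinearEquiv α (eqv f hL hU z)
    rw [map_smul, map_smul]
    rfl
  · show exteriorPower.alternatingMapLinearEquiv α (eqv f hL hU ((eqv f hL hU).symm _)) = _
    rw [LinearEquiv.apply_symm_apply, exteriorPower.alternatingMapLinearEquiv_apply_ιMulti]
    rfl

/-- The functional of a family of derivations on the exterior power. -/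
noncomputable def dv (D : Fin i → Derivation k A A) : SL φ L := (exists_dv f φ hU hφ hL D).choose

theorem dv_eq (D : Fin i → Derivation k A A) (v : Fin i → Γ(Omega.sheaf f, U)) :
    (dv f φ hU hφ hL D).1 ((eqv f hL hU).symm (exteriorPower.ιMulti _ i v)) =
      (Matrix.of fun q p => (lin f φ hU hφ (D p)).1 (v q)).det :=
  (exists_dv f φ hU hφ hL D).choose_spec v

include hL in
theorem isQCoh_ext : Coh.IsQCoh L :=
  H44Hyper.isQCoh_extPow i (OmegaUniv.isQCoh_omega f) hL.choose hL.choose_spec

omit [QuasiSeparated f] in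
theorem isQCoh_tensorPow (hq : Coh.IsQCoh L) : ∀ m, Coh.IsQCoh (CohB1.tensorPow L m)
  | 0 => QCoh.isQCoh_structureModule
  | m + 1 => KFlatLib.isQCoh_tensor (isQCoh_tensorPow hq m) hq

/-- The product of two functionals on the algebraic tensor product. -/
noncomputable def pair {M N : X.Modules} (a : SL φ M) (b : SL φ N) : Γ(M, U) ⊗[Γ(X, U)] Γ(N, U) →+ A :=
  TensorProduct.liftAddHom
    (AddMonoidHom.mk' (fun x => (AddMonoidHom.mulLeft (a.1 x)).comp b.1) fun x y => by
      ext z; simp [add_mul])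
    fun r x y => by
      show a.1 (r • x) * b.1 y = a.1 x * b.1 (r • y)
      rw [a.2, b.2]; ring

/-- The product of two functionals on a tensor product. -/
noncomputable def tev {M N : X.Modules} (hM : Coh.IsQCoh M) (hN : Coh.IsQCoh N) (hU : IsAffineOpen U)
    (a : SL φ M) (b : SL φ N) : SL φ (CohB1.tensorMod M N) :=
  letI e := LinearEquiv.ofBijective (QCoh.tmLin M N U) (QCoh.bijective_tmLin hM hN hU)
  letI F := pair φ a b
  ⟨F.comp e.symm.toAddEquiv.toAddMonoidHom, fun r z => by
    show F (e.symm (r • (show Γ((DCoh.tensorBi.obj M).obj N, U) from z))) = φ r * F (e.symm z)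
    rw [map_smul]
    generalize e.symm z = w
    induction w using TensorProduct.induction_on with
    | zero => rw [smul_zero, map_zero, mul_zero]
    | add x y hx hy => rw [smul_add, map_add, map_add, hx, hy, mul_add]
    | tmul x y =>
      rw [TensorProduct.smul_tmul']
      show a.1 (r • x) * b.1 y = φ r * (a.1 x * b.1 y)
      rw [a.2, mul_assoc]⟩

omit [QuasiSeparated f] in
theorem tev_tmS {M N : X.Modules} (hM : Coh.IsQCoh M) (hN : Coh.IsQCoh N)
    (a : SL φ M) (b : SL φ N) (x : Γ(M, U)) (y : Γ(N, U)) :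
    (tev φ hM hN hU a b).1 (QCoh.tmS M N x y) = a.1 x * b.1 y := by
  let e := LinearEquiv.ofBijective (QCoh.tmLin M N U) (QCoh.bijective_tmLin hM hN hU)
  show pair φ a b (e.symm (QCoh.tmS M N x y)) = _
  rw [show QCoh.tmS M N x y = e (x ⊗ₜ y) from rfl, LinearEquiv.symm_apply_apply]
  rfl

/-- The functional of an array of derivations on the tensor power. -/
noncomputable def ev : (m : ℕ) → (Fin m → Fin i → Derivation k A A) → SL φ (CohB1.tensorPow L m)
  | 0, _ => ⟨AddMonoidHom.mk' (fun z : Γ(X, U) => φ z) (map_add φ), fun b z => map_mul φ b z⟩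
  | m + 1, D => tev φ (isQCoh_tensorPow (isQCoh_ext f hL) m) (isQCoh_ext f hL) hU
      (ev m fun j => D j.castSucc) (dv f φ hU hφ hL (D (Fin.last m)))

section Natural

variable (hV : IsAffineOpen V) (h : V ≤ U) (φ' : Γ(X, V) →+* A') (hφ' : OverK f φ') (ψ : A →+* A')
  (hψ : ∀ b, φ' (resR h b) = ψ (φ b))

include hψ in
theorem lin_natural (D : Derivation k A A) (D' : Derivation k A' A') (hD : ∀ a, D' (ψ a) = ψ (D a))
    (z : Γ(Omega.sheaf f, U)) :
    (lin f φ' hV hφ' D').1 (res _ h z) = ψ ((lin f φ hU hφ D).1 z) := by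
  induction z using omega_induction f hU with
  | h0 => simp only [map_zero]
  | hadd a b ha hb => simp only [map_add, ha, hb]
  | hd c b =>
    rw [res_smul, (lin f φ' hV hφ' D').2, (lin f φ hU hφ D).2, map_mul,
      show res (Omega.sheaf f) h ((OmegaSh.dOmega f).app U b) = (OmegaSh.dOmega f).app V (resR h b) from
        ((OmegaSh.dOmega f).d_map (homOfLE h).op b).symm, lin_d, lin_d, hψ, hψ, hD]

include hψ in
theorem dv_natural (D : Fin i → Derivation k A A) (D' : Fin i → Derivation k A' A')
    (hD : ∀ p a, D' p (ψ a) = ψ (D p a)) (z : Γ(L, U)) :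
    (dv f φ' hV hφ' hL D').1 (res L h z) = ψ ((dv f φ hU hφ hL D).1 z) := by
  obtain ⟨w, rfl⟩ := (eqv f hL hU).symm.surjective z
  have hw : w ∈ Submodule.span Γ(X, U) (Set.range (exteriorPower.ιMulti Γ(X, U) i (M := Γ(Omega.sheaf f, U)))) := by
    rw [exteriorPower.ιMulti_span]; trivial
  induction hw using Submodule.span_induction with
  | mem w hw =>
    obtain ⟨v, rfl⟩ := hw
    rw [eqv_res f hL hU hV h, dv_eq, dv_eq, RingHom.map_det]
    congr 1
    ext q p
    exact lin_natural f φ hU hφ hV h φ' hφ' ψ hψ (D p) (D' p) (hD p) (v q)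
  | zero => simp only [map_zero]
  | add a b _ _ ha hb => simp only [map_add, ha, hb]
  | smul c a _ ha =>
    rw [map_smul, res_smul, (dv f φ' hV hφ' hL D').2, (dv f φ hU hφ hL D).2, map_mul, hψ, ha]

include hψ in
theorem ev_natural : ∀ (m : ℕ) (D : Fin m → Fin i → Derivation k A A) (D' : Fin m → Fin i → Derivation k A' A')
    (_ : ∀ j p a, D' j p (ψ a) = ψ (D j p a)) (z : Γ(CohB1.tensorPow L m, U)),
    (ev f φ' hV hφ' hL m D').1 (res _ h z) = ψ ((ev f φ hU hφ hL m D).1 z)
  | 0, _, _, _, z => hψ (show Γ(X, U) from z)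
  | m + 1, D, D', hD, z => by
    have hqM := isQCoh_tensorPow (isQCoh_ext f hL) m
    obtain ⟨w, rfl⟩ := (QCoh.bijective_tmLin hqM (isQCoh_ext f hL) hU).2 z
    induction w using TensorProduct.induction_on with
    | zero => simp only [map_zero]
    | add a b ha hb =>
      rw [map_add]
      refine ((congrArg _ (map_add (res (CohB1.tensorPow L (m + 1)) h) _ _)).trans (map_add _ _ _)).trans ?_
      rw [ha, hb, ← map_add ψ]
      exact congrArg ψ (map_add (ev f φ hU hφ hL (m + 1) D).1 _ _).symm
    | tmul x y =>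
      have e1 : res (CohB1.tensorPow L (m + 1)) h (QCoh.tmLin (CohB1.tensorPow L m) L U (x ⊗ₜ y)) =
          QCoh.tmS (CohB1.tensorPow L m) L (res _ h x) (res _ h y) := QCoh.map_tmS _ _ (homOfLE h) x y
      rw [e1]
      refine (tev_tmS φ' hV hqM (isQCoh_ext f hL) _ _ _ _).trans ?_
      rw [ev_natural m (fun j => D j.castSucc) (fun j => D' j.castSucc) (fun j => hD _) x,
        dv_natural f φ hU hφ hL hV h φ' hφ' ψ hψ _ _ (hD _) y, ← map_mul]
      exact congrArg ψ (tev_tmS φ hU hqM (isQCoh_ext f hL) _ _ x y).symm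

end Natural

theorem ev_zero (hi : 0 < i) (m : ℕ) (D : Fin (m + 1) → Fin i → Derivation k A A)
    (hD : ∀ p, D (Fin.last m) p = 0) (z : Γ(CohB1.tensorPow L (m + 1), U)) :
    (ev f φ hU hφ hL (m + 1) D).1 z = 0 := by
  have hlin : ∀ p v, (lin f φ hU hφ (D (Fin.last m) p)).1 v = 0 := fun p v => by
    induction v using omega_induction f hU with
    | h0 => exact map_zero _
    | hadd a b ha hb => rw [map_add, ha, hb, add_zero]
    | hd c b => rw [(lin f φ hU hφ _).2, lin_d, hD, Derivation.zero_apply, mul_zero]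
  have hdv : ∀ y, (dv f φ hU hφ hL (D (Fin.last m))).1 y = 0 := fun y => by
    obtain ⟨w, rfl⟩ := (eqv f hL hU).symm.surjective y
    have hw : w ∈ Submodule.span Γ(X, U)
        (Set.range (exteriorPower.ιMulti Γ(X, U) i (M := Γ(Omega.sheaf f, U)))) := by
      rw [exteriorPower.ιMulti_span]; trivial
    induction hw using Submodule.span_induction with
    | mem w hw =>
      obtain ⟨v, rfl⟩ := hw
      rw [dv_eq]
      exact Matrix.det_eq_zero_of_column_eq_zero ⟨0, hi⟩ fun q => hlin _ _
    | zero => simp only [map_zero]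
    | add a b _ _ ha hb => simp only [map_add, ha, hb, add_zero]
    | smul c a _ ha => rw [map_smul, (dv f φ hU hφ hL _).2, ha, mul_zero]
  have hqM := isQCoh_tensorPow (isQCoh_ext f hL) m
  obtain ⟨w, rfl⟩ := (QCoh.bijective_tmLin hqM (isQCoh_ext f hL) hU).2 z
  induction w using TensorProduct.induction_on with
  | zero => simp only [map_zero]
  | add a b ha hb =>
    rw [map_add]
    refine (map_add (ev f φ hU hφ hL (m + 1) D).1 _ _).trans ?_
    rw [ha, hb, add_zero]
  | tmul x y =>
    refine (tev_tmS φ hU hqM (isQCoh_ext f hL) _ _ x y).trans ?_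
    rw [hdv, mul_zero]

end Groth.Agent.H44REq
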