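import Groth.Agent.H44REq.Point
import Groth.Agent.H44REq.Deriv
import Mathlib.AlgebraicGeometry.ValuativeCriterion
import Mathlib.RingTheory.DedekindDomain.Dvr
import Mathlib.Algebra.Polynomial.Reverse
import Mathlib.RingTheory.Localization.AtPrime.Basic

/-! # Values of tensor forms along a line -/

universe u

open CategoryTheory CategoryTheory.Limits AlgebraicGeometry TopologicalSpace Opposite Polynomial

set_option linter.style.haveILetI false
set_option backward.isDefEq.respectTransparency false
set_option backward.isDefEq.respectTransparency.types false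

namespace Groth.Agent.H44REq

variable {k : Type u} [Field k] {X : Scheme.{u}} (f : X ⟶ Spec (CommRingCat.of k))
  {i : ℕ} {L : X.Modules} {K : Type u} [Field K] [Algebra k K]

/-- The function field of the line. -/
abbrev FK (K : Type u) [Field K] : Type u := FractionRing K[X]

/-- The inversion of the coordinate. -/
theorem exists_invX : ∃ ω : (FK K) →+* (FK K), (∀ a, ω (algebraMap K[X] (FK K) (C a)) = algebraMap K[X] (FK K) (C a)) ∧
    ω (algebraMap K[X] (FK K) Polynomial.X) = (algebraMap K[X] (FK K) Polynomial.X)⁻¹ := by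
  let t : (FK K) := algebraMap K[X] (FK K) Polynomial.X
  let c : K →+* (FK K) := (algebraMap K[X] (FK K)).comp C
  have ht : t ≠ 0 := fun h => Polynomial.X_ne_zero ((IsFractionRing.injective K[X] (FK K)) (h.trans (map_zero _).symm))
  letI : Invertible t := invertibleOfNonzero ht
  have hinj : Function.Injective (eval₂RingHom c t⁻¹) := by
    rw [injective_iff_map_eq_zero]
    intro p hp
    have h1 : eval₂ c (⅟t) p.reverse.reverse = 0 ∨ True := Or.inr trivial
    have h2 : eval₂ c t p.reverse = 0 := by
      letI : Invertible t⁻¹ := invertibleOfNonzero (inv_ne_zero ht)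
      have := (eval₂_reverse_eq_zero_iff c t⁻¹ p).2 hp
      rwa [invOf_eq_inv, inv_inv] at this
    have h3 : algebraMap K[X] (FK K) p.reverse = 0 := by
      rw [← h2, show eval₂ c t p.reverse = eval₂ ((algebraMap K[X] (FK K)).comp C) (algebraMap K[X] (FK K) Polynomial.X) p.reverse from rfl,
        ← Polynomial.hom_eval₂]
      simp
    exact reverse_eq_zero.1 ((IsFractionRing.injective K[X] (FK K)) (h3.trans (map_zero _).symm))
  refine ⟨IsFractionRing.lift hinj, fun a => ?_, ?_⟩
  · rw [IsFractionRing.lift_algebraMap, coe_eval₂RingHom, eval₂_C]; rfl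
  · rw [IsFractionRing.lift_algebraMap, coe_eval₂RingHom, eval₂_X]

theorem const_of_inv {P Q : K[X]} {ω : (FK K) →+* (FK K)} (hC : ∀ a, ω (algebraMap K[X] (FK K) (C a)) = algebraMap K[X] (FK K) (C a))
    (hX : ω (algebraMap K[X] (FK K) Polynomial.X) = (algebraMap K[X] (FK K) Polynomial.X)⁻¹)
    (h : ω (algebraMap K[X] (FK K) P) = algebraMap K[X] (FK K) Q) : P = C (P.coeff 0) := by
  let t : (FK K) := algebraMap K[X] (FK K) Polynomial.X
  let c : K →+* (FK K) := (algebraMap K[X] (FK K)).comp C
  have ht : t ≠ 0 := fun h => Polynomial.X_ne_zero ((IsFractionRing.injective K[X] (FK K)) (h.trans (map_zero _).symm))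
  letI : Invertible t := invertibleOfNonzero ht
  letI : Invertible t⁻¹ := invertibleOfNonzero (inv_ne_zero ht)
  have e1 : ω (algebraMap K[X] (FK K) P) = eval₂ c t⁻¹ P := by
    have : ω.comp (algebraMap K[X] (FK K)) = eval₂RingHom c t⁻¹ := Polynomial.ringHom_ext (fun a => by
      rw [RingHom.comp_apply, hC, coe_eval₂RingHom, eval₂_C]; rfl) (by
      rw [RingHom.comp_apply, hX, coe_eval₂RingHom, eval₂_X])
    exact RingHom.congr_fun this P
  have e2 : eval₂ c t P.reverse = algebraMap K[X] (FK K) P.reverse := by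
    rw [show eval₂ c t P.reverse = eval₂ ((algebraMap K[X] (FK K)).comp C) (algebraMap K[X] (FK K) Polynomial.X) P.reverse from rfl,
      ← Polynomial.hom_eval₂]
    simp
  have e3 := eval₂_reverse_mul_pow c t⁻¹ P
  rw [invOf_eq_inv, inv_inv, e2, inv_pow, ← e1, h, mul_inv_eq_iff_eq_mul₀ (pow_ne_zero _ ht)] at e3
  have e4 : P.reverse = Q * Polynomial.X ^ P.natDegree := IsFractionRing.injective K[X] (FK K) (by
    rw [e3, map_mul, map_pow])
  by_cases hP : P.natDegree = 0
  · exact Polynomial.eq_C_of_natDegree_eq_zero hP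
  · exfalso
    have := congrArg (fun p : K[X] => p.coeff 0) e4
    simp only [Polynomial.coeff_zero_reverse, Polynomial.mul_coeff_zero, Polynomial.coeff_X_pow] at this
    rw [if_neg (fun h0 => hP h0.symm), mul_zero, leadingCoeff_eq_zero] at this
    exact hP (by rw [this, natDegree_zero])

/-- The inclusion of a local ring of the line in the function field. -/
noncomputable def toFK (M : Ideal K[X]) [M.IsPrime] : Localization.AtPrime M →+* FK K :=
  IsLocalization.lift (M := M.primeCompl) (g := algebraMap K[X] (FK K)) fun q =>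
    isUnit_iff_ne_zero.2 fun h =>
      q.2 ((IsFractionRing.injective K[X] (FK K) (h.trans (map_zero _).symm)).symm ▸ M.zero_mem)

theorem toFK_algebraMap (M : Ideal K[X]) [M.IsPrime] (a : K[X]) :
    toFK M (algebraMap K[X] (Localization.AtPrime M) a) = algebraMap K[X] (FK K) a :=
  IsLocalization.lift_eq _ a

theorem isFractionRing_toFK (M : Ideal K[X]) [M.IsPrime] :
    @IsFractionRing (Localization.AtPrime M) _ (FK K) _ (toFK M).toAlgebra := by
  letI := (toFK M).toAlgebra
  haveI : IsScalarTower K[X] (Localization.AtPrime M) (FK K) :=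
    IsScalarTower.of_algebraMap_eq fun a => (toFK_algebraMap M a).symm
  exact IsFractionRing.isFractionRing_of_isDomain_of_isLocalization M.primeCompl _ _

theorem toFK_injective (M : Ideal K[X]) [M.IsPrime] : Function.Injective (toFK M) := by
  letI := (toFK M).toAlgebra
  haveI := isFractionRing_toFK M
  exact IsFractionRing.injective (Localization.AtPrime M) (FK K)

variable [QuasiSeparated f] (hL : ExtPow.IsExtPow i (Omega.sheaf f) L) (m : ℕ)
  (s : Γ(CohB1.tensorPow L m, ⊤))

section Poly

variable [UniversallyClosed f] (y : Spec (CommRingCat.of (FK K)) ⟶ X)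
  (hy : y ≫ f = Spec.map (CommRingCat.ofHom (algebraMap k (FK K))))
  (D₁ : Fin m → Fin i → Derivation k K[X] K[X]) (DF : Fin m → Fin i → Derivation k (FK K) (FK K))
  (hD : ∀ j p a, DF j p (algebraMap K[X] (FK K) a) = algebraMap K[X] (FK K) (D₁ j p a))

set_option maxHeartbeats 1000000 in
include hD in
/-- The value along a line has no poles at finite points. -/
theorem val_mem_range : ∃ P : K[X], val f y hy hL m s DF = algebraMap K[X] (FK K) P := by
  let w := val f y hy hL m s DF
  let I : Ideal K[X] :=
    { carrier := {a | ∃ P, algebraMap K[X] (FK K) a * w = algebraMap K[X] (FK K) P}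
      add_mem' := fun {a b} ⟨P, hP⟩ ⟨Q, hQ⟩ => ⟨P + Q, by rw [map_add, add_mul, hP, hQ, map_add]⟩
      zero_mem' := ⟨0, by rw [map_zero, zero_mul]⟩
      smul_mem' := fun c a ⟨P, hP⟩ => ⟨c * P, by rw [smul_eq_mul, map_mul, mul_assoc, hP, map_mul]⟩ }
  suffices I = ⊤ by
    obtain ⟨P, hP⟩ : (1 : K[X]) ∈ I := this ▸ Submodule.mem_top
    exact ⟨P, by rwa [map_one, one_mul] at hP⟩
  by_contra hne
  obtain ⟨M, hM, hle⟩ := Ideal.exists_le_maximal I hne
  let R := Localization.AtPrime M
  have hMbot : M ≠ ⊥ := Ring.ne_bot_of_isMaximal_of_not_isField hM (Polynomial.not_isField K)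
  haveI : IsDiscreteValuationRing R :=
    IsLocalization.AtPrime.isDiscreteValuationRing_of_dedekind_domain K[X] hMbot R
  have hk : ∀ c : k, toFK M (algebraMap k R c) = algebraMap k (FK K) c := fun c => by
    rw [IsScalarTower.algebraMap_apply k K[X] R, toFK_algebraMap,
      ← IsScalarTower.algebraMap_apply k K[X] (FK K)]
  let sq : ValuativeCommSq f :=
    { R := R
      K := FK K
      algebra := (toFK M).toAlgebra
      isFractionRing := isFractionRing_toFK M
      i₁ := y
      i₂ := Spec.map (CommRingCat.ofHom (algebraMap k R))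
      commSq := ⟨by
        rw [hy, ← Spec.map_comp]
        exact congrArg Spec.map (CommRingCat.hom_ext (RingHom.ext fun c => (hk c).symm))⟩ }
  have hex : ValuativeCriterion.Existence f := by
    have := (UniversallyClosed.eq_valuativeCriterion ▸ ‹UniversallyClosed f› :
      (ValuativeCriterion.Existence ⊓ @QuasiCompact) f)
    exact this.1
  haveI : sq.commSq.HasLift := hex sq
  obtain ⟨z, hzy, hzf⟩ : ∃ z : Spec (CommRingCat.of R) ⟶ X, Spec.map (CommRingCat.ofHom (toFK M)) ≫ z = y ∧
      z ≫ f = Spec.map (CommRingCat.ofHom (algebraMap k R)) :=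
    ⟨sq.commSq.lift, sq.commSq.fac_left, sq.commSq.fac_right⟩
  choose DR hDR using fun j p => exists_ext_loc M.primeCompl R (D₁ j p)
  have hval := val_comp f z hzf hL m s DR (toFK M) y hy hzy DF fun j p a => by
    refine compat_loc M.primeCompl (toFK M) (DR j p) (DF j p) (fun t => ?_) a
    rw [toFK_algebraMap, hD, hDR, toFK_algebraMap]
  obtain ⟨⟨P, b⟩, hb⟩ := IsLocalization.surj M.primeCompl (val f z hzf hL m s DR)
  refine b.2 (hle ⟨P, ?_⟩)
  show algebraMap K[X] (FK K) b * val f y hy hL m s DF = _
  have := congrArg (toFK M) hb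
  rw [map_mul, ← hval, toFK_algebraMap, toFK_algebraMap] at this
  rw [mul_comm]; exact this

end Poly

variable [UniversallyClosed f] {W : (Spec (CommRingCat.of K[X])).Opens} (g : (W : Scheme.{u}) ⟶ X)
  (hg : g ≫ f = W.ι ≫ Spec.map (CommRingCat.ofHom (algebraMap k K[X])))

set_option maxHeartbeats 1000000 in
include hg in
/-- Values at two rational points of a line agree. -/
theorem val_line (c c' : K) (e e' : Spec (CommRingCat.of K) ⟶ (W : Scheme.{u}))
    (he : e ≫ W.ι = Spec.map (CommRingCat.ofHom (Polynomial.evalRingHom c)))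
    (he' : e' ≫ W.ι = Spec.map (CommRingCat.ofHom (Polynomial.evalRingHom c')))
    (hx : (e ≫ g) ≫ f = Spec.map (CommRingCat.ofHom (algebraMap k K)))
    (hx' : (e' ≫ g) ≫ f = Spec.map (CommRingCat.ofHom (algebraMap k K)))
    (D : Fin m → Fin i → Derivation k K K) :
    val f (e ≫ g) hx hL m s D = val f (e' ≫ g) hx' hL m s D := by
  by_cases hcc : c = c'
  · subst hcc
    exact val_congr f _ hx hL m s D hx' (by rw [(cancel_mono W.ι).1 (he.trans he'.symm)])
  -- the vector fields
  let β : Fin m → Fin i → K := fun j p => (D j p c' - D j p c) / (c' - c)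
  let α : Fin m → Fin i → K := fun j p => D j p c - β j p * c
  choose D₁ hD₁C hD₁X using fun j p => exists_ext_poly (D j p) (C (α j p) + C (β j p) * Polynomial.X)
  choose D₂ hD₂C hD₂X using fun j p =>
    exists_ext_poly (D j p) (-(C (α j p) * Polynomial.X ^ 2 + C (β j p) * Polynomial.X))
  choose DF hDF using fun j p => exists_ext_loc (nonZeroDivisors K[X]) (FK K) (D₁ j p)
  choose DF' hDF' using fun j p => exists_ext_loc (nonZeroDivisors K[X]) (FK K) (D₂ j p)
  -- the generic point
  let η : Spec (CommRingCat.of (FK K)) ⟶ Spec (CommRingCat.of K[X]) := Spec.map (CommRingCat.ofHom (algebraMap K[X] (FK K)))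
  have hη : Set.range η ⊆ Set.range W.ι := by
    rw [Scheme.Opens.range_ι]
    rintro _ ⟨q, rfl⟩
    have hsp : η q ⤳ (e ≫ W.ι) (IsLocalRing.closedPoint K) := by
      refine (PrimeSpectrum.le_iff_specializes _ _).1 ?_
      intro a ha
      have : algebraMap K[X] (FK K) a = 0 := by
        have hq : q.asIdeal = ⊥ := Ideal.eq_bot_of_prime q.asIdeal
        have : algebraMap K[X] (FK K) a ∈ q.asIdeal := ha
        rwa [hq, Ideal.mem_bot] at this
      rw [(IsFractionRing.injective K[X] (FK K)) (this.trans (map_zero _).symm)]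
      exact Ideal.zero_mem _
    exact hsp.mem_open W.2 (e (IsLocalRing.closedPoint K)).2
  let y : Spec (CommRingCat.of (FK K)) ⟶ X := IsOpenImmersion.lift W.ι η hη ≫ g
  have hy : y ≫ f = Spec.map (CommRingCat.ofHom (algebraMap k (FK K))) := by
    rw [Category.assoc, hg, IsOpenImmersion.lift_fac_assoc, ← Spec.map_comp]
    exact congrArg Spec.map (CommRingCat.hom_ext (RingHom.ext fun a =>
      (IsScalarTower.algebraMap_apply k K[X] (FK K) a).symm))
  obtain ⟨P, hP⟩ := val_mem_range f hL m s y hy D₁ DF hDF
  -- the point at infinity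
  obtain ⟨ω, hωC, hωX⟩ := exists_invX (K := K)
  let y' : Spec (CommRingCat.of (FK K)) ⟶ X := Spec.map (CommRingCat.ofHom ω) ≫ y
  have hy' : y' ≫ f = Spec.map (CommRingCat.ofHom (algebraMap k (FK K))) := by
    rw [Category.assoc, hy, ← Spec.map_comp]
    refine congrArg Spec.map (CommRingCat.hom_ext (RingHom.ext fun a => ?_))
    show ω (algebraMap k (FK K) a) = algebraMap k (FK K) a
    rw [IsScalarTower.algebraMap_apply k K[X] (FK K), IsScalarTower.algebraMap_apply k K K[X]]
    exact hωC _
  have hω : ∀ j p a, DF' j p (ω a) = ω (DF j p a) := fun j p a => by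
    refine compat_loc (nonZeroDivisors K[X]) ω (DF j p) (DF' j p) (fun t => ?_) a
    rw [hDF]
    refine compat_poly (ω.comp (algebraMap K[X] (FK K))) (D₁ j p) (DF' j p) (fun b => ?_) ?_ t
    · simp only [RingHom.comp_apply, hωC, hD₁C, hDF', hD₂C]
    · simp only [RingHom.comp_apply, hωX, hD₁X, Derivation.leibniz_inv, hDF', hD₂X, map_add, map_mul, hωC,
        map_neg, map_pow, smul_eq_mul]
      have ht : algebraMap K[X] (FK K) Polynomial.X ≠ 0 := fun h =>
        Polynomial.X_ne_zero ((IsFractionRing.injective K[X] (FK K)) (h.trans (map_zero _).symm))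
      field_simp
  have hw' := val_comp f y hy hL m s DF ω y' hy' rfl DF' hω
  obtain ⟨Q, hQ⟩ := val_mem_range f hL m s y' hy' D₂ DF' hDF'
  have hconst : P = C (P.coeff 0) := const_of_inv hωC hωX ((congrArg ω hP).symm.trans (hw'.symm.trans hQ))
  -- specialisation
  have key : ∀ (d : K) (ed : Spec (CommRingCat.of K) ⟶ (W : Scheme.{u}))
      (_ : ed ≫ W.ι = Spec.map (CommRingCat.ofHom (Polynomial.evalRingHom d)))
      (hxd : (ed ≫ g) ≫ f = Spec.map (CommRingCat.ofHom (algebraMap k K)))
      (_ : ∀ j p, D j p d = α j p + β j p * d), val f (ed ≫ g) hxd hL m s D = P.coeff 0 := by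
    intro d ed hed hxd hq
    let M : Ideal K[X] := RingHom.ker (Polynomial.evalRingHom d)
    haveI : M.IsMaximal := RingHom.ker_isMaximal_of_surjective _ fun a => ⟨C a, eval_C⟩
    let R := Localization.AtPrime M
    let ρ : Spec (CommRingCat.of R) ⟶ Spec (CommRingCat.of K[X]) := Spec.map (CommRingCat.ofHom (algebraMap K[X] R))
    have hρ : Set.range ρ ⊆ Set.range W.ι := by
      rw [Scheme.Opens.range_ι]
      refine range_subset ρ ?_
      have e1 : ρ (IsLocalRing.closedPoint R) = (ed ≫ W.ι) (IsLocalRing.closedPoint K) := by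
        rw [hed]
        refine PrimeSpectrum.ext ?_
        show (IsLocalRing.maximalIdeal R).comap (algebraMap K[X] R) =
          (IsLocalRing.maximalIdeal K).comap (Polynomial.evalRingHom d)
        rw [show (IsLocalRing.maximalIdeal R).comap (algebraMap K[X] R) = M from
          IsLocalization.AtPrime.under_maximalIdeal R M, IsLocalRing.maximalIdeal_eq_bot]
        rfl
      rw [e1]
      exact (ed (IsLocalRing.closedPoint K)).2
    let z : Spec (CommRingCat.of R) ⟶ X := IsOpenImmersion.lift W.ι ρ hρ ≫ g
    have hz : z ≫ f = Spec.map (CommRingCat.ofHom (algebraMap k R)) := by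
      rw [Category.assoc, hg, IsOpenImmersion.lift_fac_assoc, ← Spec.map_comp]
      exact congrArg Spec.map (CommRingCat.hom_ext (RingHom.ext fun a =>
        (IsScalarTower.algebraMap_apply k K[X] R a).symm))
    have hu : ∀ q : M.primeCompl, IsUnit (Polynomial.evalRingHom d q.1) := fun q =>
      isUnit_iff_ne_zero.2 q.2
    let ψ : R →+* K := IsLocalization.lift hu
    have hψ : ∀ a, ψ (algebraMap K[X] R a) = a.eval d := fun a => IsLocalization.lift_eq hu a
    choose DR hDR using fun j p => exists_ext_loc M.primeCompl R (D₁ j p)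
    have hzy : Spec.map (CommRingCat.ofHom (toFK M)) ≫ z = y := by
      rw [← Category.assoc]
      congr 1
      rw [← cancel_mono W.ι, Category.assoc, IsOpenImmersion.lift_fac, IsOpenImmersion.lift_fac, ← Spec.map_comp]
      exact congrArg Spec.map (CommRingCat.hom_ext (RingHom.ext fun a => toFK_algebraMap M a))
    have hze : Spec.map (CommRingCat.ofHom ψ) ≫ z = ed ≫ g := by
      rw [← Category.assoc]
      congr 1
      rw [← cancel_mono W.ι, Category.assoc, IsOpenImmersion.lift_fac, hed, ← Spec.map_comp]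
      exact congrArg Spec.map (CommRingCat.hom_ext (RingHom.ext hψ))
    have hF := val_comp f z hz hL m s DR (toFK M) y hy hzy DF fun j p a => by
      refine compat_loc M.primeCompl (toFK M) (DR j p) (DF j p) (fun t => ?_) a
      rw [toFK_algebraMap, hDF, hDR, toFK_algebraMap]
    have hd := val_comp f z hz hL m s DR ψ (ed ≫ g) hxd hze D fun j p a => by
      refine compat_loc M.primeCompl ψ (DR j p) (D j p) (fun t => ?_) a
      rw [hDR]
      refine compat_poly (ψ.comp (algebraMap K[X] R)) (D₁ j p) (D j p) (fun b => ?_) ?_ t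
      · simp [hψ, hD₁C]
      · simp [hψ, hD₁X, hq j p]
    have hR : val f z hz hL m s DR = algebraMap K[X] R P := toFK_injective M (by
      rw [← hF, hP, toFK_algebraMap])
    rw [hd, hR, hψ, hconst, eval_C, coeff_C_zero]
  rw [key c e he hx fun j p => by simp only [α]; ring,
    key c' e' he' hx' fun j p => by
      have : c' - c ≠ 0 := sub_ne_zero.2 (Ne.symm hcc)
      simp only [α, β]; field_simp; ring]

end Groth.Agent.H44REq
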