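import Groth.Agent.H44REq.Line
import Groth.Agent.H23.P1Charts

/-! # Directly linked points have the same values -/

universe u

open CategoryTheory CategoryTheory.Limits AlgebraicGeometry TopologicalSpace Opposite Polynomial

set_option linter.style.haveILetI false
set_option backward.isDefEq.respectTransparency false
set_option backward.isDefEq.respectTransparency.types false

namespace Groth.Agent.H44REq

open H23

variable {k : Type u} [Field k] [Infinite k] {X : Scheme.{u}} (f : X ⟶ Spec (CommRingCat.of k))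
  [QuasiSeparated f] [UniversallyClosed f] {i : ℕ} {L : X.Modules} (hL : ExtPow.IsExtPow i (Omega.sheaf f) L)
  (m : ℕ) (s : Γ(CohB1.tensorPow L m, ⊤)) {K : Type u} [Field K] [Algebra k K]

omit [QuasiSeparated f] [UniversallyClosed f] [Infinite k] in
/-- A rational point on a chart is an evaluation. -/
theorem exists_eval_of_chart (j : Fin (1 + 1)) (a : Spec (CommRingCat.of K) ⟶ REq.P1K K)
    (ha : a ≫ REq.P1K.toSpec K = 𝟙 _) (hr : Set.range a ⊆ Set.range (P1Charts.chart K j)) :
    ∃ c : K, Spec.map (CommRingCat.ofHom (evalRingHom c)) ≫ P1Charts.chart K j = a := by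
  obtain ⟨φ, hφ⟩ := Spec.map_surjective (IsOpenImmersion.lift (P1Charts.chart K j) a hr)
  have hC : CommRingCat.ofHom (Polynomial.C (R := K)) ≫ φ = 𝟙 _ := Spec.map_injective (by
    rw [Spec.map_comp, hφ, Spec.map_id, ← P1Charts.chart_toBase K j, IsOpenImmersion.lift_fac_assoc]
    exact ha)
  refine ⟨φ.hom Polynomial.X, ?_⟩
  have : CommRingCat.ofHom (evalRingHom (φ.hom Polynomial.X)) = φ := CommRingCat.hom_ext <|
    Polynomial.ringHom_ext (fun b => by
      have := RingHom.congr_fun (congrArg CommRingCat.Hom.hom hC) b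
      simp only [CommRingCat.hom_comp, CommRingCat.hom_ofHom, RingHom.comp_apply, coe_evalRingHom, eval_C,
        CommRingCat.hom_id, RingHom.id_apply] at this ⊢
      exact this.symm) (by simp)
  rw [this, hφ, IsOpenImmersion.lift_fac]

theorem val_elemLink (A B : REq.Pts f K) (h : REq.ElemLink f K A B) (D : Fin m → Fin i → Derivation k K K) :
    val f A.1 A.2 hL m s D = val f B.1 B.2 hL m s D := by
  obtain ⟨U, g, a, b, hg, ha, hb, hA, hB⟩ := h
  haveI : Infinite K := Infinite.of_injective _ (algebraMap k K).injective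
  let c := fun j => P1Charts.chart K j
  -- the points in one chart
  have hchart : ∀ (j : Fin (1 + 1)) (t t' : K) (P Q : REq.Pts f K) (u v : Spec (CommRingCat.of K) ⟶ (U : Scheme.{u})),
      Spec.map (CommRingCat.ofHom (evalRingHom t)) ≫ c j = u ≫ U.ι →
      Spec.map (CommRingCat.ofHom (evalRingHom t')) ≫ c j = v ≫ U.ι → u ≫ g = P.1 → v ≫ g = Q.1 →
      val f P.1 P.2 hL m s D = val f Q.1 Q.2 hL m s D := by
    intro j t t' P Q u v hu hv hP hQ
    let W : (Spec (CommRingCat.of K[X])).Opens := c j ⁻¹ᵁ U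
    let gW : (W : Scheme.{u}) ⟶ X := (c j ∣_ U) ≫ g
    have hgW : gW ≫ f = W.ι ≫ Spec.map (CommRingCat.ofHom (algebraMap k K[X])) := by
      rw [Category.assoc, hg, morphismRestrict_ι_assoc]
      congr 1
      change P1Charts.chart K j ≫ CohB1.ProjSpaceOver.toBase 1 _ ≫ _ = _
      rw [reassoc_of% (P1Charts.chart_toBase K j), ← Spec.map_comp]
      refine congrArg Spec.map (CommRingCat.hom_ext (RingHom.ext fun r => ?_))
      rfl
    have lift : ∀ (t : K) (u : Spec (CommRingCat.of K) ⟶ (U : Scheme.{u})),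
        Spec.map (CommRingCat.ofHom (evalRingHom t)) ≫ c j = u ≫ U.ι →
        ∃ e : Spec (CommRingCat.of K) ⟶ (W : Scheme.{u}),
          e ≫ W.ι = Spec.map (CommRingCat.ofHom (evalRingHom t)) ∧ e ≫ gW = u ≫ g := by
      intro t u hu
      have hr : Set.range (Spec.map (CommRingCat.ofHom (evalRingHom t))) ⊆ Set.range W.ι := by
        rw [Scheme.Opens.range_ι]
        rintro _ ⟨q, rfl⟩
        show c j (Spec.map _ q) ∈ U
        rw [← Scheme.Hom.comp_apply, hu]
        exact (u q).2
      refine ⟨IsOpenImmersion.lift W.ι _ hr, IsOpenImmersion.lift_fac _ _ _, ?_⟩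
      rw [← Category.assoc]
      congr 1
      rw [← cancel_mono U.ι, Category.assoc, morphismRestrict_ι, IsOpenImmersion.lift_fac_assoc, hu]
    obtain ⟨e, he, he₂⟩ := lift t u hu
    obtain ⟨e', he', he'₂⟩ := lift t' v hv
    have hx : (e ≫ gW) ≫ f = Spec.map (CommRingCat.ofHom (algebraMap k K)) := by rw [he₂, hP]; exact P.2
    have hx' : (e' ≫ gW) ≫ f = Spec.map (CommRingCat.ofHom (algebraMap k K)) := by rw [he'₂, hQ]; exact Q.2
    exact ((val_congr f _ hx hL m s D P.2 (he₂.trans hP)).symm.trans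
      (val_line f hL m s gW hgW t t' e e' he he' hx hx' D)).trans (val_congr f _ hx' hL m s D Q.2 (he'₂.trans hQ))
  -- the charts of the two points
  obtain ⟨j, y, hy⟩ := P1Charts.exists_chart K ((a ≫ U.ι) (IsLocalRing.closedPoint K))
  obtain ⟨j', y', hy'⟩ := P1Charts.exists_chart K ((b ≫ U.ι) (IsLocalRing.closedPoint K))
  obtain ⟨t, ht⟩ := exists_eval_of_chart j (a ≫ U.ι) (by rw [Category.assoc]; exact ha) (by
    exact range_subset (a ≫ U.ι) (U := (P1Charts.chart K j).opensRange) ⟨y, hy⟩)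
  obtain ⟨t', ht'⟩ := exists_eval_of_chart j' (b ≫ U.ι) (by rw [Category.assoc]; exact hb) (by
    exact range_subset (b ≫ U.ι) (U := (P1Charts.chart K j').opensRange) ⟨y', hy'⟩)
  -- an intermediate point in both charts
  let O : (Spec (CommRingCat.of K[X])).Opens := c j ⁻¹ᵁ (U ⊓ (c j').opensRange)
  have hO : (O : Set (Spec (CommRingCat.of K[X]))).Nonempty := by
    have h1 : ((U : Set (REq.P1K K)) ∩ Set.range (c j')).Nonempty :=
      nonempty_preirreducible_inter U.2 (c j').isOpenEmbedding.isOpen_range ⟨_, (a (IsLocalRing.closedPoint K)).2⟩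
        ⟨_, ⟨y', rfl⟩⟩
    obtain ⟨q, hq, q', hq'⟩ := nonempty_preirreducible_inter (U.2.inter (c j').isOpenEmbedding.isOpen_range)
      (c j).isOpenEmbedding.isOpen_range h1 ⟨_, ⟨y, rfl⟩⟩
    exact ⟨q', show c j q' ∈ U ⊓ (c j').opensRange by rw [hq']; exact hq⟩
  obtain ⟨q, hq⟩ := hO
  obtain ⟨_, ⟨P, rfl⟩, hqP, hPO⟩ := PrimeSpectrum.isTopologicalBasis_basic_opens.exists_subset_of_mem_open hq O.2
  have hP : P ≠ 0 := fun h => hqP (h ▸ q.asIdeal.zero_mem)
  obtain ⟨w, hw⟩ : ∃ w : K, P.eval w ≠ 0 := by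
    by_contra hc
    push Not at hc
    exact hP (Polynomial.funext fun w => by rw [hc, eval_zero])
  let e := Spec.map (CommRingCat.ofHom (evalRingHom w))
  have heO : Set.range e ⊆ (O : Set (Spec (CommRingCat.of K[X]))) :=
    range_subset e (hPO (fun hmem => hw (by
      change P.eval w ∈ IsLocalRing.maximalIdeal K at hmem
      simpa [IsLocalRing.maximalIdeal_eq_bot] using hmem)))
  have hr : Set.range (e ≫ c j) ⊆ Set.range U.ι := by
    rw [Scheme.Opens.range_ι]
    rintro _ ⟨z, rfl⟩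
    exact (heO ⟨z, rfl⟩).1
  let u := IsOpenImmersion.lift U.ι (e ≫ c j) hr
  have hu : e ≫ c j = u ≫ U.ι := (IsOpenImmersion.lift_fac _ _ _).symm
  have hus : u ≫ U.ι ≫ REq.P1K.toSpec K = 𝟙 _ := by
    rw [← reassoc_of% hu]
    change _ ≫ P1Charts.chart K j ≫ CohB1.ProjSpaceOver.toBase 1 _ = _
    rw [P1Charts.chart_toBase, ← Spec.map_comp,
      show CommRingCat.ofHom (Polynomial.C (R := K)) ≫ CommRingCat.ofHom (evalRingHom w) = 𝟙 _ by ext r; simp,
      Spec.map_id]
  obtain ⟨w', hw'⟩ := exists_eval_of_chart j' (u ≫ U.ι) (by rw [Category.assoc]; exact hus) (by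
    rw [← hu]
    rintro _ ⟨z, rfl⟩
    exact (heO ⟨z, rfl⟩).2)
  let M : REq.Pts f K := ⟨u ≫ g, by rw [Category.assoc, hg, reassoc_of% hus]⟩
  exact (hchart j t w A M a u ht hu hA rfl).trans (hchart j' w' t' M B u b hw' ht' rfl hB)

theorem val_rEquiv (A B : REq.Pts f K) (h : REq.REquiv f K A B) (D : Fin m → Fin i → Derivation k K K) :
    val f A.1 A.2 hL m s D = val f B.1 B.2 hL m s D := by
  induction h with
  | rel x y h => exact val_elemLink f hL m s x y h D
  | refl x => rfl
  | symm x y _ ih => exact ih.symm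
  | trans x y z _ _ ih ih' => exact ih.trans ih'

end Groth.Agent.H44REq
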