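import Groth.Agent.H44REq.Sep
import Mathlib.AlgebraicGeometry.FunctionField

/-! # Almost R-trivial varieties have no pluri-forms -/

universe u

open CategoryTheory CategoryTheory.Limits AlgebraicGeometry TopologicalSpace Opposite

set_option linter.style.haveILetI false
set_option backward.isDefEq.respectTransparency false
set_option backward.isDefEq.respectTransparency.types false

namespace Groth.Agent.H44REq

open Groth.Agent.AModX

theorem eq_zero_of_isAlmostRTrivial {k : Type u} [Field k] [Infinite k] {X : Scheme.{u}}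
    (f : X ⟶ Spec (CommRingCat.of k)) [IsIntegral X] [IsProper f] [Smooth f] (hR : REq.IsAlmostRTrivial f)
    {i : ℕ} (hi : 0 < i) (m : ℕ) {L : X.Modules} (hL : ExtPow.IsExtPow i (Omega.sheaf f) L)
    (s : Γ(CohB1.tensorPow L (m + 1), ⊤)) : s = 0 := by
  refine eq_of_locally _ _ fun p _ => ?_
  obtain ⟨U, n, hp, ⟨b⟩⟩ := exists_chart f p
  refine ⟨U.1, le_top, hp, ?_⟩
  rw [map_zero]
  letI algB : Algebra k Γ(X, U.1) := (kX f U.1).toAlgebra
  choose δ hδ using exists_dual f U.2 b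
  refine separate f U.2 b hL δ hδ (m + 1) _ fun D => ?_
  haveI : Nonempty U.1 := ⟨⟨p, hp⟩⟩
  let ψ := algebraMap Γ(X, U.1) (FractionRing Γ(X, U.1))
  choose DF hDF using fun j q => exists_ext_loc (nonZeroDivisors Γ(X, U.1)) (FractionRing Γ(X, U.1)) (D j q)
  let η : Spec (CommRingCat.of (FractionRing Γ(X, U.1))) ⟶ X := Spec.map (CommRingCat.ofHom ψ) ≫ U.2.fromSpec
  have hηU : Set.range η ⊆ (U.1 : Set X) := by
    rintro _ ⟨q, rfl⟩
    exact U.2.range_fromSpec.le ⟨_, rfl⟩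
  have hη : η ≫ f = Spec.map (CommRingCat.ofHom (algebraMap k (FractionRing Γ(X, U.1)))) := by
    show (_ ≫ U.2.fromSpec) ≫ f = _
    rw [Category.assoc, ← (isAffineOpen_top (Spec (CommRingCat.of k))).SpecMap_appLE_fromSpec f U.2 le_top,
      IsAffineOpen.fromSpec_top, Scheme.isoSpec_Spec_inv, ← Spec.map_comp, ← Spec.map_comp]
    rfl
  obtain ⟨U₀, hdense, hU₀⟩ := hR
  have hηU₀ : REq.InOpen f U₀ (⟨η, hη⟩ : REq.Pts f (FractionRing Γ(X, U.1))) := by
    rintro _ ⟨q, rfl⟩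
    obtain ⟨z, hz, hzU⟩ := hdense.inter_open_nonempty _ U.1.2 ⟨p, hp⟩
    obtain ⟨w, hw⟩ := U.2.range_fromSpec.ge hz
    have hsp : Spec.map (CommRingCat.ofHom ψ) q ⤳ w := by
      refine (PrimeSpectrum.le_iff_specializes _ _).1 fun a ha => ?_
      have hq : q.asIdeal = ⊥ := Ideal.eq_bot_of_prime q.asIdeal
      have : ψ a ∈ q.asIdeal := ha
      rw [hq, Ideal.mem_bot] at this
      rw [(IsFractionRing.injective Γ(X, U.1) (FractionRing Γ(X, U.1))) (this.trans (map_zero _).symm)]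
      exact Ideal.zero_mem _
    exact (hsp.map U.2.fromSpec.continuous).mem_open U₀.2 (show U.2.fromSpec w ∈ U₀ by rw [hw]; exact hzU)
  obtain ⟨⟨x₀, hx₀⟩, -⟩ := hU₀ k
  let x₁ : REq.Pts f (FractionRing Γ(X, U.1)) :=
    ⟨Spec.map (CommRingCat.ofHom (algebraMap k (FractionRing Γ(X, U.1)))) ≫ x₀.1, by
      rw [Category.assoc, x₀.2, ← Spec.map_comp]; rfl⟩
  have hx₁ : REq.InOpen f U₀ x₁ := by
    rintro _ ⟨q, rfl⟩
    exact hx₀ ⟨_, rfl⟩
  have h1 := val_rEquiv f hL (m + 1) s _ _ ((hU₀ (FractionRing Γ(X, U.1))).2 ⟨η, hη⟩ x₁ hηU₀ hx₁) DF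
  have h0 : val f x₀.1 x₀.2 hL (m + 1) s (fun _ _ => 0) = 0 := ev_zero f _ _ _ hL hi m _ (fun _ => rfl) _
  have h2 : val f x₁.1 x₁.2 hL (m + 1) s DF = 0 := by
    rw [val_comp f x₀.1 x₀.2 hL (m + 1) s (fun _ _ => 0) (algebraMap k (FractionRing Γ(X, U.1))) x₁.1 x₁.2 rfl DF
      fun j q a => by rw [Derivation.map_algebraMap, Derivation.zero_apply, map_zero], h0, map_zero]
  have h3 := val_eq f η hη hL (m + 1) s DF U.2 hηU
  have h4 := ev_natural f (RingHom.id _) U.2 (overK_id f) hL U.2 le_rfl (homOf η U.2 hηU)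
    (overK_homOf f η hη U.2 hηU) ψ (fun a => by
      rw [resR_self, ← homOf_unique η U.2 hηU ψ rfl]; rfl) (m + 1) D DF hDF (res _ le_top s)
  rw [res_res] at h4
  refine IsFractionRing.injective Γ(X, U.1) (FractionRing Γ(X, U.1)) ?_
  rw [map_zero]
  exact h4.symm.trans ((h3.symm.trans h1).trans h2)

end Groth.Agent.H44REq
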