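import Groth.Agent.H44REq.Eval

/-! # Values of tensor forms at local points -/

universe u

open CategoryTheory CategoryTheory.Limits AlgebraicGeometry TopologicalSpace Opposite

set_option linter.style.haveILetI false
set_option backward.isDefEq.respectTransparency false
set_option backward.isDefEq.respectTransparency.types false

namespace Groth.Agent.H44REq

open Groth.Agent.AModX

variable {k : Type u} [Field k] {X : Scheme.{u}} (f : X ⟶ Spec (CommRingCat.of k))
  {A : Type u} [CommRing A] (x : Spec (CommRingCat.of A) ⟶ X)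

theorem range_subset [IsLocalRing A] {U : X.Opens} (h : x (IsLocalRing.closedPoint A) ∈ U) :
    Set.range x ⊆ (U : Set X) := by
  rintro _ ⟨y, rfl⟩
  exact ((IsLocalRing.specializes_closedPoint (R := A) y).map x.continuous).mem_open U.2 h

/-- The ring map of a point in an affine open. -/
noncomputable def homOf {U : X.Opens} (hU : IsAffineOpen U) (h : Set.range x ⊆ (U : Set X)) :
    Γ(X, U) →+* A :=
  (Spec.preimage (IsOpenImmersion.lift hU.fromSpec x (h.trans hU.range_fromSpec.ge))).hom

theorem homOf_spec {U : X.Opens} (hU : IsAffineOpen U) (h : Set.range x ⊆ (U : Set X)) :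
    Spec.map (CommRingCat.ofHom (homOf x hU h)) ≫ hU.fromSpec = x := by
  rw [homOf, CommRingCat.ofHom_hom, Spec.map_preimage, IsOpenImmersion.lift_fac]

theorem homOf_unique {U : X.Opens} (hU : IsAffineOpen U) (h : Set.range x ⊆ (U : Set X))
    (φ : Γ(X, U) →+* A) (hφ : Spec.map (CommRingCat.ofHom φ) ≫ hU.fromSpec = x) : φ = homOf x hU h := by
  have := Spec.map_injective ((cancel_mono hU.fromSpec).1 (hφ.trans (homOf_spec x hU h).symm))
  exact congrArg CommRingCat.Hom.hom this

theorem homOf_res {U V : X.Opens} (hU : IsAffineOpen U) (hV : IsAffineOpen V) (le : V ≤ U)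
    (h : Set.range x ⊆ (U : Set X)) (h' : Set.range x ⊆ (V : Set X)) (b : Γ(X, U)) :
    homOf x hV h' (resR le b) = homOf x hU h b := by
  have : (homOf x hV h').comp (resR le) = homOf x hU h := homOf_unique x hU h _ (by
    rw [show CommRingCat.ofHom ((homOf x hV h').comp (resR le)) =
      X.presheaf.map (homOfLE le).op ≫ CommRingCat.ofHom (homOf x hV h') from rfl, Spec.map_comp, Category.assoc,
      IsAffineOpen.map_fromSpec hU hV, homOf_spec])
  exact RingHom.congr_fun this b

variable [Algebra k A] (hx : x ≫ f = Spec.map (CommRingCat.ofHom (algebraMap k A)))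

include hx in
theorem overK_homOf {U : X.Opens} (hU : IsAffineOpen U) (h : Set.range x ⊆ (U : Set X)) :
    OverK f (homOf x hU h) := by
  suffices he : CommRingCat.ofHom ((homOf x hU h).comp (kX f U)) = CommRingCat.ofHom (algebraMap k A) from
    congrArg CommRingCat.Hom.hom he
  apply Spec.map_injective
  rw [← hx, show CommRingCat.ofHom ((homOf x hU h).comp (kX f U)) =
    (Scheme.ΓSpecIso (CommRingCat.of k)).inv ≫ f.appLE ⊤ U le_top ≫ CommRingCat.ofHom (homOf x hU h) from rfl,
    Spec.map_comp, Spec.map_comp, Category.assoc,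
    ← Scheme.isoSpec_Spec_inv, ← IsAffineOpen.fromSpec_top,
    (isAffineOpen_top (Spec (CommRingCat.of k))).SpecMap_appLE_fromSpec f hU le_top, ← Category.assoc,
    homOf_spec]

variable [IsLocalRing A] [QuasiSeparated f] {i : ℕ} {L : X.Modules}
  (hL : ExtPow.IsExtPow i (Omega.sheaf f) L) (m : ℕ) (s : Γ(CohB1.tensorPow L m, ⊤))
  (D : Fin m → Fin i → Derivation k A A)

theorem exists_affine : ∃ U : X.affineOpens, x (IsLocalRing.closedPoint A) ∈ U.1 := by
  obtain ⟨_, ⟨U, hU, rfl⟩, hxU, -⟩ := X.isBasis_affineOpens.exists_subset_of_mem_open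
    (Set.mem_univ (x (IsLocalRing.closedPoint A))) isOpen_univ
  exact ⟨⟨U, hU⟩, hxU⟩

/-- The value of a global form at a local point, on an array of derivations. -/
noncomputable def val : A :=
  (ev f (homOf x (exists_affine x).choose.2 (range_subset x (exists_affine x).choose_spec))
    (exists_affine x).choose.2 (overK_homOf f x hx _ _) hL m D).1 (res _ le_top s)

theorem ev_eq_of_le {U V : X.Opens} (hU : IsAffineOpen U) (hV : IsAffineOpen V) (le : V ≤ U)
    (h : Set.range x ⊆ (U : Set X)) (h' : Set.range x ⊆ (V : Set X)) :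
    (ev f (homOf x hV h') hV (overK_homOf f x hx hV h') hL m D).1 (res _ le_top s) =
      (ev f (homOf x hU h) hU (overK_homOf f x hx hU h) hL m D).1 (res _ le_top s) := by
  have := ev_natural f (homOf x hU h) hU (overK_homOf f x hx hU h) hL hV le (homOf x hV h')
    (overK_homOf f x hx hV h') (RingHom.id A) (homOf_res x hU hV le h h') m D D (fun _ _ _ => rfl) (res _ le_top s)
  rwa [res_res] at this

theorem val_eq {U : X.Opens} (hU : IsAffineOpen U) (h : Set.range x ⊆ (U : Set X)) :
    val f x hx hL m s D = (ev f (homOf x hU h) hU (overK_homOf f x hx hU h) hL m D).1 (res _ le_top s) := by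
  obtain ⟨U₀, hU₀, hp⟩ : ∃ U₀ : X.affineOpens, U₀ = (exists_affine x).choose ∧ x (IsLocalRing.closedPoint A) ∈ U₀.1 :=
    ⟨_, rfl, (exists_affine x).choose_spec⟩
  obtain ⟨W, hW, hpW, hle⟩ := Opens.isBasis_iff_nbhd.mp X.isBasis_affineOpens
    (show x (IsLocalRing.closedPoint A) ∈ U₀.1 ⊓ U from ⟨hp, h ⟨_, rfl⟩⟩)
  subst hU₀
  rw [val, ← ev_eq_of_le f x hx hL m s D (exists_affine x).choose.2 hW (hle.trans inf_le_left) (range_subset x hp)
    (range_subset x hpW), ← ev_eq_of_le f x hx hL m s D hU hW (hle.trans inf_le_right) h (range_subset x hpW)]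

/-- Naturality of the value. -/
theorem val_comp {A' : Type u} [CommRing A'] [Algebra k A'] [IsLocalRing A'] (ψ : A →+* A')
    (x' : Spec (CommRingCat.of A') ⟶ X) (hx' : x' ≫ f = Spec.map (CommRingCat.ofHom (algebraMap k A')))
    (he : Spec.map (CommRingCat.ofHom ψ) ≫ x = x') (D' : Fin m → Fin i → Derivation k A' A')
    (hD : ∀ j p a, D' j p (ψ a) = ψ (D j p a)) :
    val f x' hx' hL m s D' = ψ (val f x hx hL m s D) := by
  subst he
  obtain ⟨U, hp⟩ := exists_affine x
  have h := range_subset x hp
  have h' : Set.range (Spec.map (CommRingCat.ofHom ψ) ≫ x) ⊆ (U.1 : Set X) := by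
    rintro _ ⟨y, rfl⟩; exact h ⟨_, rfl⟩
  rw [val_eq f x hx hL m s D U.2 h, val_eq f _ hx' hL m s D' U.2 h']
  have hψ : ∀ b, homOf (Spec.map (CommRingCat.ofHom ψ) ≫ x) U.2 h' (resR le_rfl b) = ψ (homOf x U.2 h b) :=
    fun b => by
      rw [resR_self, ← homOf_unique _ U.2 h' (ψ.comp (homOf x U.2 h)) (by
        rw [CommRingCat.ofHom_comp, Spec.map_comp, Category.assoc, homOf_spec])]
      rfl
  have := ev_natural f (homOf x U.2 h) U.2 (overK_homOf f x hx U.2 h) hL U.2 le_rfl
    (homOf _ U.2 h') (overK_homOf f _ hx' U.2 h') ψ hψ m D D' hD (res _ le_top s)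
  rwa [res_res] at this

theorem val_congr {x' : Spec (CommRingCat.of A) ⟶ X} (hx' : x' ≫ f = Spec.map (CommRingCat.ofHom (algebraMap k A)))
    (he : x = x') : val f x hx hL m s D = val f x' hx' hL m s D := by
  subst he; rfl

end Groth.Agent.H44REq
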