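import Groth.Agent.H44REq.Link
import Groth.Agent.H44REq.Deriv
import Mathlib.RingTheory.Smooth.StandardSmoothCotangent
import Mathlib.LinearAlgebra.ExteriorPower.Basis

/-! # Derivations separate tensor forms on a standard smooth chart -/

universe u

open CategoryTheory CategoryTheory.Limits AlgebraicGeometry TopologicalSpace Opposite TensorProduct

set_option linter.style.haveILetI false
set_option backward.isDefEq.respectTransparency false
set_option backward.isDefEq.respectTransparency.types false

namespace Groth.Agent.H44REq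

open Groth.Agent.AModX

variable {k : Type u} [Field k] {X : Scheme.{u}} (f : X ⟶ Spec (CommRingCat.of k)) [QuasiSeparated f]

theorem exists_chart [Smooth f] (p : X) :
    ∃ (U : X.affineOpens) (n : ℕ), p ∈ U.1 ∧ Nonempty (Module.Basis (Fin n) Γ(X, U.1) Γ(Omega.sheaf f, U.1)) := by
  by_cases htriv : ∃ U : X.affineOpens, p ∈ U.1 ∧ Subsingleton Γ(X, U.1)
  · obtain ⟨U, hp, hs⟩ := htriv
    haveI := hs
    haveI : Subsingleton Γ(Omega.sheaf f, U.1) := Module.subsingleton Γ(X, U.1) _
    exact ⟨U, 0, hp, ⟨Module.Basis.empty _⟩⟩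
  obtain ⟨V, hV, U, hU, hp, e, hss⟩ := Smooth.exists_isStandardSmooth f p
  haveI : Nontrivial Γ(X, U) := not_subsingleton_iff_nontrivial.1 fun h => htriv ⟨⟨U, hU⟩, hp, h⟩
  let alg := (f.appLE V U e).hom.toAlgebra
  haveI : Algebra.IsStandardSmooth Γ(Spec (CommRingCat.of k), V) Γ(X, U) := hss
  haveI : Module.Finite Γ(X, U) Ω[Γ(X, U)⁄Γ(Spec (CommRingCat.of k), V)] := inferInstance
  haveI : Module.Free Γ(X, U) Ω[Γ(X, U)⁄Γ(Spec (CommRingCat.of k), V)] := inferInstance
  obtain ⟨E, -⟩ := H44LogNCD.exists_omega_equiv (OmegaUniv.isUniversal_dOmega f) hU hV e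
  exact ⟨⟨U, hU⟩, _, hp, ⟨(Module.finBasis Γ(X, U) Ω[Γ(X, U)⁄Γ(Spec (CommRingCat.of k), V)]).map E.symm⟩⟩

variable {U : X.Opens} (hU : IsAffineOpen U) {n : ℕ} (b : Module.Basis (Fin n) Γ(X, U) Γ(Omega.sheaf f, U))

include hU in
theorem dOmega_kX (c : k) : (OmegaSh.dOmega f).app U (kX f U c) = 0 := by
  let alg := (f.appLE ⊤ U le_top).hom.toAlgebra
  obtain ⟨E, hE⟩ := H44LogNCD.exists_omega_equiv (OmegaUniv.isUniversal_dOmega f) hU
    (isAffineOpen_top (Spec (CommRingCat.of k))) le_top
  apply E.injective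
  rw [hE, map_zero]
  exact Derivation.map_algebraMap _ ((Scheme.ΓSpecIso (CommRingCat.of k)).inv c)

include hU in
/-- The derivations dual to a frame. -/
theorem exists_dual (j : Fin n) : letI := (kX f U).toAlgebra
    ∃ δ : Derivation k Γ(X, U) Γ(X, U), ∀ a, δ a = b.coord j ((OmegaSh.dOmega f).app U a) := by
  let _ := (kX f U).toAlgebra
  refine ⟨Derivation.mk'
    { toFun := fun a => b.coord j ((OmegaSh.dOmega f).app U a)
      map_add' := fun a a' => by rw [map_add, map_add]
      map_smul' := fun c a => by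
        show b.coord j ((OmegaSh.dOmega f).app U (kX f U c * a)) = kX f U c * b.coord j ((OmegaSh.dOmega f).app U a)
        rw [(show (OmegaSh.dOmega f).app U (kX f U c * a) = kX f U c • (OmegaSh.dOmega f).app U a +
          a • (OmegaSh.dOmega f).app U (kX f U c) from (OmegaSh.dOmega f).d_mul (X := op U) _ _),
          dOmega_kX f hU, smul_zero, add_zero, map_smul, smul_eq_mul] }
    fun a a' => by
      show b.coord j ((OmegaSh.dOmega f).app U (a * a')) =
        a * b.coord j ((OmegaSh.dOmega f).app U a') + a' * b.coord j ((OmegaSh.dOmega f).app U a)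
      rw [(show (OmegaSh.dOmega f).app U (a * a') = a • (OmegaSh.dOmega f).app U a' +
        a' • (OmegaSh.dOmega f).app U a from (OmegaSh.dOmega f).d_mul (X := op U) _ _),
        map_add, map_smul, map_smul, smul_eq_mul, smul_eq_mul], fun a => rfl⟩

theorem overK_id : letI := (kX f U).toAlgebra; OverK f (RingHom.id Γ(X, U)) :=
  RingHom.id_comp _

open Set.powersetCard in
theorem separate {i : ℕ} {L : X.Modules} (hL : ExtPow.IsExtPow i (Omega.sheaf f) L) :
    letI := (kX f U).toAlgebra
    ∀ (δ : Fin n → Derivation k Γ(X, U) Γ(X, U)) (_ : ∀ j a, δ j a = b.coord j ((OmegaSh.dOmega f).app U a))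
      (m : ℕ) (z : Γ(CohB1.tensorPow L m, U)),
      (∀ D : Fin m → Fin i → Derivation k Γ(X, U) Γ(X, U),
        (ev f (RingHom.id _) hU (overK_id f) hL m D).1 z = 0) → z = 0 := by
  classical
  let _ := (kX f U).toAlgebra
  intro δ hδ m
  have hlin : ∀ j z, (lin f (RingHom.id _) hU (overK_id f) (δ j)).1 z = b.coord j z := fun j z => by
    induction z using omega_induction f hU with
    | h0 => rw [map_zero, map_zero]
    | hadd a a' ha ha' => rw [map_add, map_add, ha, ha']
    | hd c a => rw [(lin f _ hU (overK_id f) (δ j)).2, lin_d, map_smul, smul_eq_mul, RingHom.id_apply, RingHom.id_apply, hδ]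
  induction m with
  | zero => exact fun z hz => hz Fin.elim0
  | succ m ih =>
    intro z hz
    have hqM := isQCoh_tensorPow (isQCoh_ext f hL) m
    let ω : Set.powersetCard (Fin n) i → Γ(L, U) := fun J =>
      (eqv f hL hU).symm (exteriorPower.ιMulti_family Γ(X, U) i b J)
    obtain ⟨w, rfl⟩ := (QCoh.bijective_tmLin hqM (isQCoh_ext f hL) hU).2 z
    obtain ⟨x, rfl⟩ : ∃ x : Set.powersetCard (Fin n) i → Γ(CohB1.tensorPow L m, U),
        w = ∑ J, x J ⊗ₜ[Γ(X, U)] ω J := by
      clear hz
      induction w using TensorProduct.induction_on with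
      | zero => exact ⟨0, by simp⟩
      | add a a' ha ha' =>
        obtain ⟨x, rfl⟩ := ha; obtain ⟨x', rfl⟩ := ha'
        exact ⟨x + x', by rw [← Finset.sum_add_distrib]; simp only [Pi.add_apply, TensorProduct.add_tmul]⟩
      | tmul a y =>
        let B := (b.exteriorPower i).map (eqv f hL hU).symm
        have hB : ∀ J, B J = ω J := fun J => by
          simp only [B, ω, Module.Basis.map_apply, exteriorPower.basis_apply]
        refine ⟨fun J => B.repr y J • a, ?_⟩
        conv_lhs => rw [← B.sum_repr y]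
        rw [TensorProduct.tmul_sum]
        exact Finset.sum_congr rfl fun J _ => by rw [hB, TensorProduct.smul_tmul]
    suffices ∀ J, x J = 0 by simp [this]
    intro J
    refine ih (x J) fun D => ?_
    let DJ : Fin i → Derivation k Γ(X, U) Γ(X, U) := fun p => δ (ofFinEmbEquiv.symm J p)
    have hdv : ∀ I, (dv f (RingHom.id _) hU (overK_id f) hL DJ).1 (ω I) = if J = I then 1 else 0 := fun I => by
      rw [show ω I = (eqv f hL hU).symm (exteriorPower.ιMulti _ i (fun q => b (ofFinEmbEquiv.symm I q))) from rfl,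
        dv_eq]
      simp only [DJ, hlin]
      rw [← exteriorPower.ιMultiDual_apply_ιMulti]
      split_ifs with hJI
      · subst hJI; exact exteriorPower.ιMultiDual_apply_diag _ _ b J
      · exact exteriorPower.ιMultiDual_apply_nondiag _ _ b J I hJI
    have hD := hz (Fin.snoc D DJ)
    have hev : ∀ (a : Γ(CohB1.tensorPow L m, U)) (y : Γ(L, U)),
        (ev f (RingHom.id _) hU (overK_id f) hL (m + 1) (Fin.snoc D DJ)).1 (QCoh.tmLin _ L U (a ⊗ₜ y)) =
          (ev f (RingHom.id _) hU (overK_id f) hL m D).1 a * (dv f (RingHom.id _) hU (overK_id f) hL DJ).1 y := fun a y => by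
      refine (tev_tmS (RingHom.id _) hU hqM (isQCoh_ext f hL) _ _ a y).trans ?_
      rw [Fin.snoc_last, show (fun j : Fin m => Fin.snoc (α := fun _ => Fin i → Derivation k Γ(X, U) Γ(X, U)) D DJ j.castSucc) = D from
        funext fun j => Fin.snoc_castSucc _ _ j]
    rw [map_sum] at hD
    have e := (map_sum (ev f (RingHom.id _) hU (overK_id f) hL (m + 1) (Fin.snoc D DJ)).1 _ _).symm.trans hD
    rw [Finset.sum_congr rfl fun I _ => hev (x I) (ω I)] at e
    simpa [hdv] using e

end Groth.Agent.H44REq
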